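import Mathlib
import Groth.Prelude.Def_Exal2

set_option autoImplicit false
universe u v

namespace Groth.Agent.H5.ExalL

open Exal

attribute [local instance] Exal.opModule Exal.isCentralScalar_opModule

variable {A : Type u} {B L : Type v} [CommRing A] [CommRing B] [Algebra A B] [AddCommGroup L]
  [Module B L]

lemma proj_incl (X : Ext A B L) (z : L) : X.proj (X.incl z) = 0 :=
  (X.isExtension.exact _).2 ⟨z, rfl⟩

lemma incl_mul_incl (X : Ext A B L) (z z' : L) : X.incl z * X.incl z' = 0 := by
  rw [X.isExtension.mul_incl, proj_incl, zero_smul, map_zero]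

lemma incl_mul (X : Ext A B L) (z : L) (x : X.E) : X.incl z * x = X.incl (X.proj x • z) := by
  rw [mul_comm, X.isExtension.mul_incl]

lemma exists_incl_of_proj_eq (X : Ext A B L) {x y : X.E} (h : X.proj x = X.proj y) :
    ∃ z, x = y + X.incl z := by
  have : X.proj (x - y) = 0 := by rw [map_sub, h, sub_self]
  obtain ⟨z, hz⟩ := (X.isExtension.exact _).1 this
  exact ⟨z, by rw [hz]; ring⟩

/-- five lemma: a morphism of extensions is an equivalence. -/
noncomputable def equivOfAlgHom (X Y : Ext A B L) (φ : X.E →ₐ[A] Y.E)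
    (hp : ∀ x, Y.proj (φ x) = X.proj x) (hi : ∀ z, φ (X.incl z) = Y.incl z) : X.Equiv Y where
  toAlgEquiv := AlgEquiv.ofBijective φ (by
    constructor
    · rw [injective_iff_map_eq_zero]
      intro x hx
      have h0 : X.proj x = 0 := by rw [← hp, hx, map_zero]
      obtain ⟨z, rfl⟩ := (X.isExtension.exact _).1 h0
      rw [hi] at hx
      have : z = 0 := Y.isExtension.incl_injective (hx.trans (map_zero _).symm)
      rw [this, map_zero]
    · intro y
      obtain ⟨x, hx⟩ := X.isExtension.proj_surjective (Y.proj y)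
      obtain ⟨z, hz⟩ := exists_incl_of_proj_eq Y (x := y) (y := φ x) (by rw [hp, hx])
      exact ⟨x + X.incl z, by rw [map_add, hi, hz]⟩)
  proj_apply := hp
  apply_incl := hi

lemma isTrivial_of_equiv {X Y : Ext A B L} (e : X.Equiv Y) (h : Y.IsTrivial) : X.IsTrivial := by
  obtain ⟨s, hs⟩ := h
  refine ⟨(e.symm.toAlgEquiv : Y.E →ₐ[A] X.E).comp s, fun b => ?_⟩
  show X.proj (e.symm.toAlgEquiv (s b)) = b
  rw [e.symm.proj_apply, hs]

section triv
variable (A B L)

lemma t_fst_mul (x y : (Ext.trivial A B L).E) :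
    TrivSqZeroExt.fst (x * y) = TrivSqZeroExt.fst x * TrivSqZeroExt.fst y :=
  TrivSqZeroExt.fst_mul (R := B) (M := L) x y

lemma t_snd_mul (x y : (Ext.trivial A B L).E) :
    TrivSqZeroExt.snd (x * y) =
      TrivSqZeroExt.fst x • TrivSqZeroExt.snd y + TrivSqZeroExt.fst y • TrivSqZeroExt.snd x :=
  TrivSqZeroExt.snd_mul (R := B) (M := L) x y

lemma t_fst_add (x y : (Ext.trivial A B L).E) :
    TrivSqZeroExt.fst (x + y) = TrivSqZeroExt.fst x + TrivSqZeroExt.fst y :=
  TrivSqZeroExt.fst_add (R := B) (M := L) x y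

lemma t_snd_add (x y : (Ext.trivial A B L).E) :
    TrivSqZeroExt.snd (x + y) = TrivSqZeroExt.snd x + TrivSqZeroExt.snd y :=
  TrivSqZeroExt.snd_add (R := B) (M := L) x y

end triv

/-- the comparison map from the trivial extension, given a section. -/
noncomputable def ofSection (X : Ext A B L) (s : B →ₐ[A] X.E) (hs : ∀ b, X.proj (s b) = b) :
    (Ext.trivial A B L).E →ₐ[A] X.E where
  toFun x := s (TrivSqZeroExt.fst x) + X.incl (TrivSqZeroExt.snd x)
  map_one' := by
    show s (TrivSqZeroExt.fst (1 : TrivSqZeroExt B L)) + X.incl (TrivSqZeroExt.snd (1 : TrivSqZeroExt B L)) = 1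
    rw [TrivSqZeroExt.fst_one, TrivSqZeroExt.snd_one, map_one, map_zero, add_zero]
  map_mul' x y := by
    show s (TrivSqZeroExt.fst (x * y : TrivSqZeroExt B L)) +
      X.incl (TrivSqZeroExt.snd (x * y : TrivSqZeroExt B L)) = _
    rw [t_fst_mul, t_snd_mul, map_mul, map_add, add_mul, mul_add, mul_add,
      incl_mul_incl, add_zero, X.isExtension.mul_incl, hs, incl_mul, hs]
    abel
  map_zero' := by
    show s (TrivSqZeroExt.fst (0 : TrivSqZeroExt B L)) + X.incl (TrivSqZeroExt.snd (0 : TrivSqZeroExt B L)) = 0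
    rw [TrivSqZeroExt.fst_zero, TrivSqZeroExt.snd_zero, map_zero, map_zero, add_zero]
  map_add' x y := by
    show s (TrivSqZeroExt.fst (x + y : TrivSqZeroExt B L)) +
      X.incl (TrivSqZeroExt.snd (x + y : TrivSqZeroExt B L)) = _
    rw [t_fst_add, t_snd_add, map_add, map_add]
    abel
  commutes' a := by
    show s (TrivSqZeroExt.fst (TrivSqZeroExt.inl (algebraMap A B a) : TrivSqZeroExt B L)) +
      X.incl (TrivSqZeroExt.snd (TrivSqZeroExt.inl (algebraMap A B a) : TrivSqZeroExt B L)) = _
    rw [TrivSqZeroExt.fst_inl, TrivSqZeroExt.snd_inl, map_zero, add_zero, AlgHom.commutes]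

/-- an extension with a section is equivalent to the trivial one. -/
noncomputable def equivTrivialOfSection (X : Ext A B L) (s : B →ₐ[A] X.E)
    (hs : ∀ b, X.proj (s b) = b) : (Ext.trivial A B L).Equiv X :=
  equivOfAlgHom _ X (ofSection X s hs)
    (fun x => by
      show X.proj (s (TrivSqZeroExt.fst x) + X.incl (TrivSqZeroExt.snd x)) = TrivSqZeroExt.fst x
      rw [map_add, hs, proj_incl, add_zero])
    (fun z => by
      show s (TrivSqZeroExt.fst (TrivSqZeroExt.inr z : TrivSqZeroExt B L)) +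
        X.incl (TrivSqZeroExt.snd (TrivSqZeroExt.inr z : TrivSqZeroExt B L)) = X.incl z
      rw [TrivSqZeroExt.fst_inr, TrivSqZeroExt.snd_inr, map_zero, zero_add])

lemma nonempty_equiv_of_isTrivial {X Y : Ext A B L} (hX : X.IsTrivial) (hY : Y.IsTrivial) :
    Nonempty (X.Equiv Y) := by
  obtain ⟨s, hs⟩ := hX
  obtain ⟨t, ht⟩ := hY
  exact ⟨(equivTrivialOfSection X s hs).symm.trans (equivTrivialOfSection Y t ht)⟩

lemma trivial_isTrivial : (Ext.trivial A B L).IsTrivial := by
  refine ⟨{ toFun := fun b => (TrivSqZeroExt.inl b : TrivSqZeroExt B L)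
            map_one' := TrivSqZeroExt.inl_one L
            map_mul' := fun x y => TrivSqZeroExt.inl_mul L x y
            map_zero' := TrivSqZeroExt.inl_zero L
            map_add' := fun x y => TrivSqZeroExt.inl_add L x y
            commutes' := fun a => rfl }, fun b => rfl⟩

end Groth.Agent.H5.ExalL
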