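import Mathlib
import Groth.Agent.Lib.Helper5.Exal.A

set_option autoImplicit false
universe u v

namespace Groth.Agent.H5.ExalL

open Exal

attribute [local instance] Exal.opModule Exal.isCentralScalar_opModule

section derivation
variable {k : Type u} {Λ R κ : Type v} [CommRing k] [CommRing Λ] [Algebra k Λ] [CommRing R]
  [Algebra k R] [Algebra Λ R] [IsScalarTower k Λ R] [AddCommGroup κ] [Module R κ] [Module Λ κ]
  [IsScalarTower Λ R κ] [Module k κ] [IsScalarTower k Λ κ] [IsScalarTower k R κ]

/-- if the extension attached to a derivation is trivial, the derivation extends. -/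
theorem exists_derivation_of_isTrivial (D : Derivation k Λ κ)
    (h : (Ext.ofDerivation (C := R) D).IsTrivial) :
    ∃ D' : Derivation k R κ, ∀ a : Λ, D' (algebraMap Λ R a) = D a := by
  obtain ⟨s, hs⟩ := h
  -- s r = (r, δ r)
  let δ : R → κ := fun r => TrivSqZeroExt.snd (s r : TrivSqZeroExt R κ)
  have hfst : ∀ r, TrivSqZeroExt.fst (s r : TrivSqZeroExt R κ) = r := hs
  have hadd : ∀ r r', δ (r + r') = δ r + δ r' := by
    intro r r'
    show TrivSqZeroExt.snd (s (r + r') : TrivSqZeroExt R κ) = _
    rw [map_add]
    exact TrivSqZeroExt.snd_add (R := R) (M := κ) _ _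
  have hmul : ∀ r r', δ (r * r') = r • δ r' + r' • δ r := by
    intro r r'
    show TrivSqZeroExt.snd (s (r * r') : TrivSqZeroExt R κ) = _
    rw [map_mul]
    have := TrivSqZeroExt.snd_mul (R := R) (M := κ) (s r : TrivSqZeroExt R κ) (s r')
    rw [hfst, hfst] at this
    exact this
  have hΛ : ∀ a : Λ, δ (algebraMap Λ R a) = D a := by
    intro a
    show TrivSqZeroExt.snd (s (algebraMap Λ R a) : TrivSqZeroExt R κ) = _
    rw [AlgHom.commutes]
    show TrivSqZeroExt.snd (TrivSqZeroExt.inl (algebraMap Λ R a) + TrivSqZeroExt.inr (D a) :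
      TrivSqZeroExt R κ) = _
    rw [TrivSqZeroExt.snd_add, TrivSqZeroExt.snd_inl, TrivSqZeroExt.snd_inr, zero_add]
  have hk : ∀ c : k, δ (algebraMap k R c) = 0 := by
    intro c
    rw [IsScalarTower.algebraMap_apply k Λ R, hΛ, Derivation.map_algebraMap]
  refine ⟨{ toFun := δ
            map_add' := hadd
            map_smul' := fun c r => by
              rw [Algebra.smul_def, hmul, hk, smul_zero, add_zero, RingHom.id_apply,
                algebraMap_smul]
            map_one_eq_zero' := by
              show δ 1 = 0
              have := hk 1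
              rwa [map_one] at this
            leibniz' := fun a b => hmul a b }, fun a => hΛ a⟩

end derivation

end Groth.Agent.H5.ExalL
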