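import Mathlib
import Groth.Agent.Lib.Helper5.Exal.B

set_option autoImplicit false
universe u v

namespace Groth.Agent.H5.ExalL

open Exal

attribute [local instance] Exal.opModule Exal.isCentralScalar_opModule

section converse
variable {k : Type u} {Λ R κ : Type u} [CommRing k] [CommRing Λ] [Algebra k Λ] [CommRing R]
  [Algebra k R] [Algebra Λ R] [IsScalarTower k Λ R] [AddCommGroup κ] [Module R κ] [Module Λ κ]
  [IsScalarTower Λ R κ] [Module k κ] [IsScalarTower k R κ]

/-- the pullback to `Λ` of the restriction to `k` of a `Λ`-extension is trivial. -/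
lemma pullback_restrictBase_isTrivial (X : Ext Λ R κ) :
    ((X.restrictBase k).pullback Λ).IsTrivial := by
  refine ⟨{ toFun := fun a => ⟨(algebraMap Λ X.E a, a), ?_⟩
            map_one' := ?_
            map_mul' := ?_
            map_zero' := ?_
            map_add' := ?_
            commutes' := ?_ }, fun a => rfl⟩
  · show X.proj (algebraMap Λ X.E a) = algebraMap Λ R a
    rw [AlgHom.commutes]
  · apply Subtype.ext; apply Prod.ext
    · exact map_one (algebraMap Λ X.E)
    · rfl
  · intro a b; apply Subtype.ext; apply Prod.ext
    · exact map_mul (algebraMap Λ X.E) a b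
    · rfl
  · apply Subtype.ext; apply Prod.ext
    · exact map_zero (algebraMap Λ X.E)
    · rfl
  · intro a b; apply Subtype.ext; apply Prod.ext
    · exact map_add (algebraMap Λ X.E) a b
    · rfl
  · intro c; apply Subtype.ext; apply Prod.ext
    · rfl
    · rfl

/-- the pullback of a trivial extension is trivial. -/
lemma pullback_isTrivial {Y : Ext k R κ} (h : Y.IsTrivial) : (Y.pullback Λ).IsTrivial := by
  obtain ⟨s, hs⟩ := h
  refine ⟨{ toFun := fun a => ⟨(s (algebraMap Λ R a), a), ?_⟩
            map_one' := ?_
            map_mul' := ?_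
            map_zero' := ?_
            map_add' := ?_
            commutes' := ?_ }, fun a => rfl⟩
  · show Y.proj (s (algebraMap Λ R a)) = algebraMap Λ R a
    rw [hs]
  · apply Subtype.ext; apply Prod.ext
    · show s (algebraMap Λ R 1) = 1
      rw [map_one, map_one]
    · rfl
  · intro a b; apply Subtype.ext; apply Prod.ext
    · show s (algebraMap Λ R (a * b)) = s (algebraMap Λ R a) * s (algebraMap Λ R b)
      rw [map_mul, map_mul]
    · rfl
  · apply Subtype.ext; apply Prod.ext
    · show s (algebraMap Λ R 0) = 0
      rw [map_zero, map_zero]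
    · rfl
  · intro a b; apply Subtype.ext; apply Prod.ext
    · show s (algebraMap Λ R (a + b)) = s (algebraMap Λ R a) + s (algebraMap Λ R b)
      rw [map_add, map_add]
    · rfl
  · intro c; apply Subtype.ext; apply Prod.ext
    · show s (algebraMap Λ R (algebraMap k Λ c)) = algebraMap k Y.E c
      rw [← IsScalarTower.algebraMap_apply k Λ R, AlgHom.commutes]
    · rfl

end converse

end Groth.Agent.H5.ExalL
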