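import Mathlib
import Groth.Agent.Lib.Helper5.Exal.C

set_option autoImplicit false
universe u v

namespace Groth.Agent.H5.ExalL

open Exal

attribute [local instance] Exal.opModule Exal.isCentralScalar_opModule

section converse
variable {k : Type u} {Λ R κ : Type u} [CommRing k] [CommRing Λ] [Algebra k Λ] [CommRing R]
  [Algebra k R] [Algebra Λ R] [IsScalarTower k Λ R] [AddCommGroup κ] [Module R κ] [Module Λ κ]
  [IsScalarTower Λ R κ] [Module k κ] [IsScalarTower k R κ]

/-- a `Λ`-extension which is trivial over `k` is trivial provided derivations extend. -/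
theorem isTrivial_of_restrictBase_isTrivial (X : Ext Λ R κ)
    (hder : ∀ D : Derivation k Λ κ, ∃ D' : Derivation k R κ, ∀ a : Λ, D' (algebraMap Λ R a) = D a)
    (h : (X.restrictBase k).IsTrivial) : X.IsTrivial := by
  obtain ⟨s₀, hs₀⟩ := h
  -- view `s₀` as a map into `X.E`
  let t : R → X.E := fun r => s₀ r
  have ht_proj : ∀ r, X.proj (t r) = r := hs₀
  have ht_add : ∀ r r', t (r + r') = t r + t r' := fun r r' => map_add s₀ r r'
  have ht_mul : ∀ r r', t (r * r') = t r * t r' := fun r r' => map_mul s₀ r r'
  have ht_one : t 1 = 1 := map_one s₀
  have ht_k : ∀ c : k, t (algebraMap k R c) = algebraMap Λ X.E (algebraMap k Λ c) :=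
    fun c => s₀.commutes c
  -- the difference derivation
  have hker : ∀ a : Λ, X.proj (algebraMap Λ X.E a - t (algebraMap Λ R a)) = 0 := by
    intro a
    rw [map_sub, AlgHom.commutes, ht_proj, sub_self]
  let d : Λ → κ := fun a => X.kerLift _ (hker a)
  have hd : ∀ a, X.incl (d a) = algebraMap Λ X.E a - t (algebraMap Λ R a) :=
    fun a => X.incl_kerLift _ (hker a)
  have hd_add : ∀ a b, d (a + b) = d a + d b := by
    intro a b
    apply X.isExtension.incl_injective
    rw [map_add, hd, hd, hd, map_add, map_add, ht_add]
    ring
  have hd_mul : ∀ a b, d (a * b) = a • d b + b • d a := by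
    intro a b
    apply X.isExtension.incl_injective
    have e1 : X.incl (a • d b) = algebraMap Λ X.E a * X.incl (d b) := by
      rw [X.isExtension.mul_incl, AlgHom.commutes, algebraMap_smul]
    have e2 : X.incl (b • d a) = X.incl (d a) * t (algebraMap Λ R b) := by
      rw [incl_mul, ht_proj, algebraMap_smul]
    rw [map_add, e1, e2, hd, hd, hd, map_mul, map_mul, ht_mul]
    ring
  have hd_k : ∀ c : k, d (algebraMap k Λ c) = 0 := by
    intro c
    apply X.isExtension.incl_injective
    rw [hd, map_zero, ← IsScalarTower.algebraMap_apply k Λ R, ht_k, sub_self]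
  let D : Derivation k Λ κ :=
    { toFun := d
      map_add' := hd_add
      map_smul' := fun c a => by
        rw [Algebra.smul_def, hd_mul, hd_k, smul_zero, add_zero, RingHom.id_apply]
        rw [← IsScalarTower.algebraMap_smul R (algebraMap k Λ c) (d a),
          ← IsScalarTower.algebraMap_apply k Λ R, algebraMap_smul]
      map_one_eq_zero' := by
        show d 1 = 0
        have := hd_k 1
        rwa [map_one] at this
      leibniz' := fun a b => hd_mul a b }
  obtain ⟨D', hD'⟩ := hder D
  have hD'd : ∀ a, D' (algebraMap Λ R a) = d a := hD'
  refine ⟨{ toFun := fun r => t r + X.incl (D' r)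
            map_one' := by
              rw [ht_one, Derivation.map_one_eq_zero, map_zero, add_zero]
            map_mul' := fun r r' => by
              rw [ht_mul, Derivation.leibniz, map_add, add_mul, mul_add, mul_add, incl_mul_incl,
                add_zero, X.isExtension.mul_incl, ht_proj, incl_mul, ht_proj]
              abel
            map_zero' := by
              have : t 0 = 0 := map_zero s₀
              rw [this, map_zero, map_zero, add_zero]
            map_add' := fun r r' => by
              rw [ht_add, map_add, map_add]
              abel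
            commutes' := fun a => by
              show t (algebraMap Λ R a) + X.incl (D' (algebraMap Λ R a)) = algebraMap Λ X.E a
              rw [hD'd, hd]
              ring }, fun r => ?_⟩
  show X.proj (t r + X.incl (D' r)) = r
  rw [map_add, ht_proj, proj_incl, add_zero]

end converse

end Groth.Agent.H5.ExalL
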