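import Mathlib
import Groth.Agent.Lib.Helper5.Exal.D

set_option autoImplicit false
universe u v

namespace Groth.Agent.H5.ExalL

open Exal

section baer
variable {k : Type u} {R κ : Type u} [CommRing k] [CommRing R]
  [Algebra k R] [AddCommGroup κ] [Module R κ]

/-- the fibre product of the middle rings. -/
def P (Y Y' : Ext k R κ) : Subalgebra k (Y.E × Y'.E) :=
  AlgHom.equalizer (Y.proj.comp (AlgHom.fst k Y.E Y'.E)) (Y'.proj.comp (AlgHom.snd k Y.E Y'.E))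

lemma mem_P {Y Y' : Ext k R κ} {p : Y.E × Y'.E} : p ∈ P Y Y' ↔ Y.proj p.1 = Y'.proj p.2 := Iff.rfl

/-- the diagonal copy of the kernel. -/
def Δ (Y Y' : Ext k R κ) : Ideal (P Y Y') where
  carrier := {p | ∃ z : κ, p.1 = (Y.incl z, Y'.incl z)}
  zero_mem' := ⟨0, by simp; rfl⟩
  add_mem' := by
    rintro p q ⟨z, hz⟩ ⟨w, hw⟩
    refine ⟨z + w, ?_⟩
    rw [Subalgebra.coe_add, hz, hw, map_add, map_add]
    rfl
  smul_mem' := by
    rintro c p ⟨z, hz⟩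
    refine ⟨Y.proj c.1.1 • z, ?_⟩
    rw [smul_eq_mul, Subalgebra.coe_mul, hz]
    apply Prod.ext
    · show c.1.1 * Y.incl z = _
      rw [Y.isExtension.mul_incl]
    · show c.1.2 * Y'.incl z = _
      rw [Y'.isExtension.mul_incl, mem_P.mp c.2]

lemma mem_Δ {Y Y' : Ext k R κ} {p : P Y Y'} : p ∈ Δ Y Y' ↔ ∃ z : κ, p.1 = (Y.incl z, Y'.incl z) :=
  Iff.rfl

/-- the Baer difference ring. -/
def Z (Y Y' : Ext k R κ) : Type u := (P Y Y') ⧸ (Δ Y Y')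

noncomputable instance (Y Y' : Ext k R κ) : CommRing (Z Y Y') :=
  inferInstanceAs (CommRing ((P Y Y') ⧸ (Δ Y Y')))

noncomputable instance (Y Y' : Ext k R κ) : Algebra k (Z Y Y') :=
  inferInstanceAs (Algebra k ((P Y Y') ⧸ (Δ Y Y')))

/-- the quotient map. -/
noncomputable def mkₐZ (Y Y' : Ext k R κ) : P Y Y' →ₐ[k] Z Y Y' := Ideal.Quotient.mkₐ k (Δ Y Y')

/-- elements of the difference ring. -/
noncomputable def mkZ {Y Y' : Ext k R κ} (y : Y.E) (y' : Y'.E) (h : Y.proj y = Y'.proj y') : Z Y Y' :=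
  mkₐZ Y Y' ⟨(y, y'), mem_P.mpr h⟩

variable {Y Y' : Ext k R κ}

lemma mkZ_surjective (ζ : Z Y Y') : ∃ y y' h, mkZ (Y := Y) (Y' := Y') y y' h = ζ := by
  obtain ⟨⟨⟨y, y'⟩, hp⟩, rfl⟩ := Ideal.Quotient.mkₐ_surjective k (Δ Y Y') ζ
  exact ⟨y, y', mem_P.mp hp, rfl⟩

lemma mkZ_add (y₁ y₂ : Y.E) (y₁' y₂' : Y'.E) (h₁ h₂) :
    mkZ y₁ y₁' h₁ + mkZ y₂ y₂' h₂ =
      mkZ (Y := Y) (Y' := Y') (y₁ + y₂) (y₁' + y₂') (by rw [map_add, map_add, h₁, h₂]) := rfl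

lemma mkZ_mul (y₁ y₂ : Y.E) (y₁' y₂' : Y'.E) (h₁ h₂) :
    mkZ y₁ y₁' h₁ * mkZ y₂ y₂' h₂ =
      mkZ (Y := Y) (Y' := Y') (y₁ * y₂) (y₁' * y₂') (by rw [map_mul, map_mul, h₁, h₂]) := rfl

lemma mkZ_eq_zero_iff (y : Y.E) (y' : Y'.E) (h) :
    mkZ (Y := Y) (Y' := Y') y y' h = 0 ↔ ∃ z, y = Y.incl z ∧ y' = Y'.incl z := by
  have : mkZ (Y := Y) (Y' := Y') y y' h = 0 ↔ (⟨(y, y'), mem_P.mpr h⟩ : P Y Y') ∈ Δ Y Y' :=
    Ideal.Quotient.eq_zero_iff_mem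
  rw [this, mem_Δ]
  constructor
  · rintro ⟨z, hz⟩
    exact ⟨z, congrArg Prod.fst hz, congrArg Prod.snd hz⟩
  · rintro ⟨z, rfl, rfl⟩
    exact ⟨z, rfl⟩

lemma mkZ_sub (y₁ y₂ : Y.E) (y₁' y₂' : Y'.E) (h₁ h₂) :
    mkZ y₁ y₁' h₁ - mkZ y₂ y₂' h₂ =
      mkZ (Y := Y) (Y' := Y') (y₁ - y₂) (y₁' - y₂') (by rw [map_sub, map_sub, h₁, h₂]) := rfl

/-- uniqueness of the second coordinate. -/
lemma mkZ_right_injective (y : Y.E) (y₁' y₂' : Y'.E) (h₁ h₂)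
    (h : mkZ (Y := Y) (Y' := Y') y y₁' h₁ = mkZ y y₂' h₂) : y₁' = y₂' := by
  rw [← sub_eq_zero, mkZ_sub, mkZ_eq_zero_iff] at h
  obtain ⟨z, hz, hz'⟩ := h
  rw [sub_self] at hz
  have : z = 0 := Y.isExtension.incl_injective (hz.symm.trans (map_zero _).symm)
  rw [this, map_zero, sub_eq_zero] at hz'
  exact hz'

/-- the projection of the difference ring. -/
noncomputable def projZ (Y Y' : Ext k R κ) : Z Y Y' →ₐ[k] R :=
  (Ideal.Quotient.liftₐ (Δ Y Y') ((Y.proj.comp (AlgHom.fst k Y.E Y'.E)).comp (P Y Y').val) (by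
    rintro p ⟨z, hz⟩
    show Y.proj p.1.1 = 0
    rw [hz]
    exact proj_incl Y z) : ((P Y Y') ⧸ (Δ Y Y')) →ₐ[k] R)

lemma projZ_mkZ (y : Y.E) (y' : Y'.E) (h) : projZ Y Y' (mkZ y y' h) = Y.proj y := rfl

/-- existence of the second coordinate. -/
lemma exists_mkZ_eq (ζ : Z Y Y') (y : Y.E) (hy : Y.proj y = projZ Y Y' ζ) :
    ∃ y' h, mkZ (Y := Y) (Y' := Y') y y' h = ζ := by
  obtain ⟨y₁, y₁', h₁, rfl⟩ := mkZ_surjective ζ
  rw [projZ_mkZ] at hy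
  obtain ⟨z, hz⟩ := exists_incl_of_proj_eq Y hy
  refine ⟨y₁' + Y'.incl z, by rw [map_add, proj_incl, add_zero, hy, h₁], ?_⟩
  rw [← sub_eq_zero, mkZ_sub, mkZ_eq_zero_iff]
  exact ⟨z, by rw [hz]; ring, by ring⟩

/-- the inclusion of the kernel in the difference ring. -/
noncomputable def inclZ (Y Y' : Ext k R κ) : κ →+ Z Y Y' where
  toFun z := mkZ (Y.incl z) 0 (by rw [proj_incl, map_zero])
  map_zero' := by
    rw [mkZ_eq_zero_iff]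
    exact ⟨0, by simp, by simp⟩
  map_add' z w := by
    rw [mkZ_add]
    congr 1
    · exact map_add _ _ _
    · simp

lemma isExtension_Z : ∀ (ζ : Z Y Y'), projZ Y Y' ζ = 0 ↔ ζ ∈ Set.range (inclZ Y Y') := by
  intro ζ
  constructor
  · intro h
    obtain ⟨y, y', hyy', rfl⟩ := mkZ_surjective ζ
    rw [projZ_mkZ] at h
    have h' : Y'.proj y' = 0 := by rw [← hyy', h]
    obtain ⟨z, rfl⟩ := (Y.isExtension.exact _).1 h
    obtain ⟨z', rfl⟩ := (Y'.isExtension.exact _).1 h'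
    refine ⟨z - z', ?_⟩
    show mkZ (Y.incl (z - z')) 0 (by rw [proj_incl, map_zero]) = _
    rw [← sub_eq_zero, mkZ_sub, mkZ_eq_zero_iff]
    exact ⟨-z', by rw [map_sub, map_neg]; ring, by rw [map_neg]; ring⟩
  · rintro ⟨z, rfl⟩
    show projZ Y Y' (mkZ (Y.incl z) 0 (by rw [proj_incl, map_zero])) = 0
    rw [projZ_mkZ, proj_incl]

end baer

end Groth.Agent.H5.ExalL
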