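import Mathlib
import Groth.Agent.Lib.Helper5.Exal.E

set_option autoImplicit false
universe u v

namespace Groth.Agent.H5.ExalL

open Exal

section baer2
variable {k : Type u} {Λ R κ : Type u} [CommRing k] [CommRing Λ] [Algebra k Λ] [CommRing R]
  [Algebra k R] [Algebra Λ R] [IsScalarTower k Λ R] [AddCommGroup κ] [Module R κ] [Module Λ κ]
  [IsScalarTower Λ R κ]

variable {Y Y' : Ext k R κ} (e : (Y.pullback Λ).Equiv (Y'.pullback Λ))

lemma pb_mem (x : (Y.pullback Λ).E) : Y.proj x.1.1 = algebraMap Λ R x.1.2 := x.2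

lemma e_snd (x : (Y.pullback Λ).E) : (e.toAlgEquiv x).1.2 = x.1.2 := e.proj_apply x

/-- first projection of the pulled back extension. -/
noncomputable def fstPB (Y : Ext k R κ) : (Y.pullback Λ).E →ₐ[k] Y.E :=
  (AlgHom.fst k Y.E Λ).comp (Y.fiberProd Λ).val

lemma fstPB_apply (Y : Ext k R κ) (x : (Y.pullback Λ).E) : fstPB (Λ := Λ) Y x = x.1.1 := rfl

/-- the map from the pulled back extension to the fibre product. -/
noncomputable def ψ : (Y.pullback Λ).E →ₐ[k] P Y Y' :=
  AlgHom.codRestrict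
    (AlgHom.prod (fstPB (Λ := Λ) Y)
      ((fstPB (Λ := Λ) Y').comp
        (e.toAlgEquiv.toAlgHom : (Y.pullback Λ).E →ₐ[k] (Y'.pullback Λ).E)))
    (P Y Y') (fun x => by
      rw [mem_P]
      show Y.proj x.1.1 = Y'.proj (e.toAlgEquiv x).1.1
      rw [pb_mem, pb_mem (Y := Y') (e.toAlgEquiv x), e_snd])

lemma ψ_apply (x : (Y.pullback Λ).E) : (ψ e x).1 = (x.1.1, (e.toAlgEquiv x).1.1) := rfl

/-- the map to the difference ring. -/
noncomputable def θ : (Y.pullback Λ).E →ₐ[k] Z Y Y' := (mkₐZ Y Y').comp (ψ e)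

lemma θ_apply (x : (Y.pullback Λ).E) :
    θ e x = mkZ x.1.1 (e.toAlgEquiv x).1.1
      (by rw [pb_mem, pb_mem (Y := Y') (e.toAlgEquiv x), e_snd]) := rfl

lemma θ_eq_zero (x : (Y.pullback Λ).E) (hx : (Y.pullback Λ).proj x = 0) : θ e x = 0 := by
  obtain ⟨z, rfl⟩ := ((Y.pullback Λ).isExtension.exact x).1 hx
  rw [θ_apply, mkZ_eq_zero_iff]
  refine ⟨z, rfl, ?_⟩
  rw [e.apply_incl]
  rfl

/-- the `Λ`-algebra structure map of the difference ring. -/
noncomputable def lam : Λ →+* Z Y Y' :=
  RingHom.liftOfSurjective ((Y.pullback Λ).proj : (Y.pullback Λ).E →+* Λ)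
    (Y.pullback Λ).isExtension.proj_surjective
    ⟨(θ e : (Y.pullback Λ).E →+* Z Y Y'), fun x hx => θ_eq_zero e x hx⟩

lemma lam_proj (x : (Y.pullback Λ).E) : lam e ((Y.pullback Λ).proj x) = θ e x :=
  RingHom.liftOfRightInverse_comp_apply _ _ _ _ x

lemma lam_algebraMap (c : k) : lam e (algebraMap k Λ c) = algebraMap k (Z Y Y') c := by
  have h1 : (Y.pullback Λ).proj (algebraMap k (Y.pullback Λ).E c) = algebraMap k Λ c :=
    AlgHom.commutes _ c
  rw [← h1, lam_proj, AlgHom.commutes]

lemma projZ_lam (a : Λ) : projZ Y Y' (lam e a) = algebraMap Λ R a := by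
  obtain ⟨x, rfl⟩ := (Y.pullback Λ).isExtension.proj_surjective a
  rw [lam_proj, θ_apply, projZ_mkZ, pb_mem]
  rfl

/-- the `Λ`-algebra structure of the difference ring. -/
@[reducible] noncomputable def algZ : Algebra Λ (Z Y Y') := (lam e).toAlgebra

/-- the projection as a `Λ`-algebra map. -/
noncomputable def projZΛ : letI := algZ e; Z Y Y' →ₐ[Λ] R :=
  letI := algZ e
  { (projZ Y Y' : Z Y Y' →+* R) with
    commutes' := fun a => projZ_lam e a }

lemma projZΛ_apply (ζ : Z Y Y') : letI := algZ e; projZΛ e ζ = projZ Y Y' ζ := rfl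

/-- the Baer difference as a `Λ`-extension. -/
noncomputable def Zext : Ext Λ R κ :=
  letI : Algebra Λ (Z Y Y') := algZ e
  { E := Z Y Y'
    proj := projZΛ e
    incl := inclZ Y Y'
    isExtension :=
      { proj_surjective := fun r => by
          obtain ⟨y, hy⟩ := Y.isExtension.proj_surjective r
          obtain ⟨y', hy'⟩ := Y'.isExtension.proj_surjective r
          exact ⟨mkZ y y' (by rw [hy, hy']), hy⟩
        incl_injective := fun z w h => by
          have h' : mkZ (Y := Y) (Y' := Y') (Y.incl z) 0 (by rw [proj_incl, map_zero]) =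
            mkZ (Y.incl w) 0 (by rw [proj_incl, map_zero]) := h
          rw [← sub_eq_zero, mkZ_sub, mkZ_eq_zero_iff] at h'
          obtain ⟨v, hv, hv'⟩ := h'
          rw [sub_self] at hv'
          have : v = 0 := Y'.isExtension.incl_injective (hv'.symm.trans (map_zero _).symm)
          rw [this, map_zero, sub_eq_zero] at hv
          exact Y.isExtension.incl_injective hv
        exact := fun ζ => isExtension_Z ζ
        mul_incl := fun ζ z => by
          obtain ⟨y, y', hyy', rfl⟩ := mkZ_surjective ζ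
          show mkZ y y' hyy' * mkZ (Y.incl z) 0 (by rw [proj_incl, map_zero]) =
            mkZ (Y.incl (Y.proj y • z)) 0 (by rw [proj_incl, map_zero])
          rw [mkZ_mul]
          congr 1
          · exact Y.isExtension.mul_incl y z
          · exact mul_zero _ } }

end baer2

end Groth.Agent.H5.ExalL
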