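import Mathlib
import Groth.Agent.Lib.Helper5.Exal.F

set_option autoImplicit false
universe u v

namespace Groth.Agent.H5.ExalL

open Exal

section baer3
variable {k : Type u} {R κ : Type u} [CommRing k] [CommRing R]
  [Algebra k R] [AddCommGroup κ] [Module R κ]

variable {Y Y' : Ext k R κ}

/-- a (set-theoretic, multiplicative, additive, `k`-linear) section of the difference ring gives an
equivalence of the two extensions. -/
theorem nonempty_equiv_of_section (σ : R →ₐ[k] Z Y Y') (hσ : ∀ r, projZ Y Y' (σ r) = r) :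
    Nonempty (Y.Equiv Y') := by
  have hex : ∀ y : Y.E, ∃ y' h, mkZ (Y := Y) (Y' := Y') y y' h = σ (Y.proj y) :=
    fun y => exists_mkZ_eq _ y (hσ _).symm
  choose φ hφ₁ hφ₂ using hex
  have huniq : ∀ (y : Y.E) (y' : Y'.E) (h), mkZ (Y := Y) (Y' := Y') y y' h = σ (Y.proj y) →
      y' = φ y := fun y y' h e =>
    mkZ_right_injective y y' (φ y) h (hφ₁ y) (e.trans (hφ₂ y).symm)
  have hmul : ∀ a b, φ (a * b) = φ a * φ b := by
    intro a b
    symm
    apply huniq (a * b) (φ a * φ b) (by rw [map_mul, map_mul, hφ₁, hφ₁])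
    rw [← mkZ_mul a b (φ a) (φ b) (hφ₁ a) (hφ₁ b), hφ₂, hφ₂, map_mul, map_mul]
  have hadd : ∀ a b, φ (a + b) = φ a + φ b := by
    intro a b
    symm
    apply huniq (a + b) (φ a + φ b) (by rw [map_add, map_add, hφ₁, hφ₁])
    rw [← mkZ_add a b (φ a) (φ b) (hφ₁ a) (hφ₁ b), hφ₂, hφ₂, map_add, map_add]
  have hk : ∀ c : k, φ (algebraMap k Y.E c) = algebraMap k Y'.E c := by
    intro c
    symm
    apply huniq _ _ (by rw [AlgHom.commutes, AlgHom.commutes])
    have e1 : σ (Y.proj (algebraMap k Y.E c)) = algebraMap k (Z Y Y') c := by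
      rw [AlgHom.commutes, AlgHom.commutes]
    rw [e1]
    rfl
  have hincl : ∀ z, φ (Y.incl z) = Y'.incl z := by
    intro z
    symm
    apply huniq _ _ (by rw [proj_incl, proj_incl])
    have e1 : σ (Y.proj (Y.incl z)) = 0 := by rw [proj_incl, map_zero]
    rw [e1, mkZ_eq_zero_iff]
    exact ⟨z, rfl, rfl⟩
  let Φ : Y.E →ₐ[k] Y'.E :=
    { toFun := φ
      map_one' := by
        have := hk 1
        rwa [map_one, map_one] at this
      map_mul' := hmul
      map_zero' := by
        have := hincl 0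
        rwa [map_zero, map_zero] at this
      map_add' := hadd
      commutes' := hk }
  exact ⟨equivOfAlgHom Y Y' Φ (fun y => (hφ₁ y).symm) hincl⟩

end baer3

section main
variable {k : Type u} {Λ R κ : Type u} [CommRing k] [CommRing Λ] [Algebra k Λ] [CommRing R]
  [Algebra k R] [Algebra Λ R] [IsScalarTower k Λ R] [AddCommGroup κ] [Module R κ] [Module Λ κ]
  [IsScalarTower Λ R κ] [Module k κ] [IsScalarTower k Λ κ] [IsScalarTower k R κ]

/-- (b): if all `Λ`-extensions are trivial, pullback to `Λ` is injective on classes. -/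
theorem nonempty_equiv_of_pullback (h : ∀ X : Ext Λ R κ, X.IsTrivial) (Y Y' : Ext k R κ)
    (e : (Y.pullback Λ).Equiv (Y'.pullback Λ)) : Nonempty (Y.Equiv Y') := by
  obtain ⟨s, hs⟩ := h (Zext e)
  letI : Algebra Λ (Z Y Y') := algZ e
  -- the section as a `k`-algebra map
  let σ : R →ₐ[k] Z Y Y' :=
    { toFun := fun r => s r
      map_one' := map_one s
      map_mul' := map_mul s
      map_zero' := map_zero s
      map_add' := map_add s
      commutes' := fun c => by
        have h1 : s (algebraMap Λ R (algebraMap k Λ c)) = algebraMap Λ (Z Y Y') (algebraMap k Λ c) :=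
          s.commutes _
        rw [IsScalarTower.algebraMap_apply k Λ R]
        show s (algebraMap Λ R (algebraMap k Λ c)) = _
        rw [h1]
        exact lam_algebraMap e c }
  exact nonempty_equiv_of_section σ hs

theorem main11292 :
    (∀ X : Ext Λ R κ, X.IsTrivial) ↔
    ((∀ D : Derivation k Λ κ, ∃ D' : Derivation k R κ, ∀ a : Λ, D' (algebraMap Λ R a) = D a) ∧
     (∀ Y Y' : Ext k R κ,
        Nonempty ((Y.pullback Λ).Equiv (Y'.pullback Λ)) → Nonempty (Y.Equiv Y'))) := by
  constructor
  · intro h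
    refine ⟨fun D => exists_derivation_of_isTrivial D (h _), fun Y Y' ⟨e⟩ =>
      nonempty_equiv_of_pullback h Y Y' e⟩
  · rintro ⟨ha, hb⟩ X
    apply isTrivial_of_restrictBase_isTrivial X ha
    have h1 : ((X.restrictBase k).pullback Λ).IsTrivial := pullback_restrictBase_isTrivial X
    have h2 : ((Ext.trivial k R κ).pullback Λ).IsTrivial := pullback_isTrivial trivial_isTrivial
    obtain ⟨e⟩ := hb _ _ (nonempty_equiv_of_isTrivial h1 h2)
    exact isTrivial_of_equiv e trivial_isTrivial

end main

end Groth.Agent.H5.ExalL
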